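import Groth.Agent.SiteMod.PullTensorIso
import Groth.Agent.Mod48.Tot
import Groth.Agent.EGA73.TwistInvertible
import Groth.Prelude.Def_BrSev
import Groth.Prelude.Def_FSch6
import Mathlib.RingTheory.MvPolynomial.Ideal

set_option autoImplicit false
set_option backward.isDefEq.respectTransparency.types false

open CategoryTheory CategoryTheory.Limits AlgebraicGeometry

noncomputable section

namespace Groth.Agent.TwTens96

universe u

/-- Inverse images commute with tensor products. -/
def pullTensIso {X P : Scheme.{u}} (i : X ⟶ P) (M N : P.Modules) :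
    (Scheme.Modules.pullback i).obj (CohB1.tensorMod M N) ≅
      CohB1.tensorMod ((Scheme.Modules.pullback i).obj M) ((Scheme.Modules.pullback i).obj N) :=
  let e := ModSite.RMor.ofSchemePull i
  let r : X.Modules ⥤ X.Modules := Mod48.tR (O := X.sheaf) ((ModSite.RMor.ofScheme i).pull.obj N)
  (Functor.isoWhiskerLeft (Mod48.tR (O := P.sheaf) N) e.symm ≪≫
    SiteMod.pullTensIso (ModSite.RMor.ofScheme i) N ≪≫
    Functor.isoWhiskerRight e r ≪≫
    Functor.isoWhiskerLeft (Scheme.Modules.pullback i)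
      ((ModSite.tensorBi X.sheaf).flip.mapIso (e.app N))).app M

/-- The irrelevant ideal of a polynomial ring is generated in degree one. -/
theorem hgen (n : ℕ) (A : Type u) [CommRing A] :
    (HomogeneousIdeal.irrelevant (CohB1.polyGrading n A)).toIdeal =
      Ideal.span (CohB1.polyGrading n A 1 : Set (MvPolynomial (Fin (n + 1)) A)) := by
  refine le_antisymm (fun a ha => ?_)
    (Ideal.span_le.2 fun _ ha => HomogeneousIdeal.mem_irrelevant_of_mem _ zero_lt_one ha)
  change a ∈ HomogeneousIdeal.irrelevant _ at ha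
  rw [HomogeneousIdeal.mem_irrelevant_iff, GradedRing.proj_apply,
    ← DirectSum.Decomposition.decompose'_eq, MvPolynomial.decomposition.decompose'_apply,
    MvPolynomial.homogeneousComponent_zero, MvPolynomial.C_eq_zero] at ha
  refine Ideal.span_mono (Set.range_subset_iff.2 fun i => MvPolynomial.isHomogeneous_X A i) ?_
  rw [← Set.image_univ, MvPolynomial.mem_ideal_span_X_image]
  intro m hm
  obtain ⟨i, hi⟩ : ∃ i, m i ≠ 0 := by
    by_contra hc
    push Not at hc
    rw [show m = 0 from Finsupp.ext hc] at hm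
    exact (MvPolynomial.mem_support_iff.1 hm) ha
  exact ⟨i, trivial, hi⟩

variable {X : Scheme.{u}}

/-- `(M^r) ⊗ (N^s) ≅ (M ⊗ N)^(r s)`. -/
theorem nonempty_pow_tens (M N : X.Modules) (r s : ℕ) :
    Nonempty (CohB1.tensorMod (BrSev.pow M r) (BrSev.pow N s) ≅
      BrSev.pow (CohB1.tensorMod M N) (r * s)) := by
  let L : X.Modules → (X.Modules ⥤ X.Modules) := fun A => (ModSite.tensorBi X.sheaf).obj A
  let R : X.Modules → (X.Modules ⥤ X.Modules) := fun A => (ModSite.tensorBi X.sheaf).flip.obj A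
  have : ∀ A, PreservesColimitsOfSize.{u, u} (L A) := fun A =>
    Mod48.preservesColimitsOfSize_tensorBi_obj (O := X.sheaf) A
  have : ∀ A, PreservesColimitsOfSize.{u, u} (R A) := fun A =>
    Mod48.preservesColimitsOfSize_tensorBi_flip_obj (O := X.sheaf) A
  have : ∀ A, PreservesColimitsOfSize.{0, 0} (L A) := fun A =>
    preservesSmallestColimits_of_preservesColimits _
  have : ∀ A, PreservesColimitsOfSize.{0, 0} (R A) := fun A =>
    preservesSmallestColimits_of_preservesColimits _
  let e1 : CohB1.tensorMod (BrSev.pow M r) (BrSev.pow N s) ≅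
      ∐ fun _ : Fin r => CohB1.tensorMod M (BrSev.pow N s) :=
    PreservesCoproduct.iso (R (BrSev.pow N s)) (fun _ : Fin r => M)
  let e2 : CohB1.tensorMod M (BrSev.pow N s) ≅ BrSev.pow (CohB1.tensorMod M N) s :=
    PreservesCoproduct.iso (L M) (fun _ : Fin s => N)
  exact ⟨e1 ≪≫ Limits.Sigma.mapIso (fun _ => e2) ≪≫
    sigmaSigmaIso (fun _ : Fin r => Fin s) (fun _ _ => CohB1.tensorMod M N) ≪≫
    Limits.Sigma.reindex ((Equiv.sigmaEquivProd _ _).trans finProdFinEquiv)
      (fun _ : Fin (r * s) => CohB1.tensorMod M N)⟩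

variable {k : Type u} [Field k] {f : X ⟶ Spec (CommRingCat.of k)} {K : Type u} [Field K] [Algebra k K]
  {n : ℕ}

theorem isTwPow_tensorMod (e : BrSev.Splitting f K n) (j l : ℤ) (r s : ℕ) (W W' : X.Modules)
    (hW : BrSev.IsTwPow e j r W) (hW' : BrSev.IsTwPow e l s W') :
    BrSev.IsTwPow e (j + l) (r * s) (CohB1.tensorMod W W') := by
  obtain ⟨a⟩ := hW
  obtain ⟨b⟩ := hW'
  obtain ⟨p⟩ := nonempty_pow_tens (e.twist j) (e.twist l) r s
  obtain ⟨t⟩ : Nonempty (CohB1.tensorMod (Twist.twistProjSpace n K j) (Twist.twistProjSpace n K l) ≅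
      Twist.twistProjSpace n K (j + l)) := EGA73.nonempty_twist_tensor_iso (hgen n K) j l
  let q : CohB1.tensorMod (e.twist j) (e.twist l) ≅ e.twist (j + l) :=
    (pullTensIso e.iso.hom _ _).symm ≪≫
      (Scheme.Modules.pullback e.iso.hom).mapIso t
  exact ⟨pullTensIso (BrSev.proj f K) W W' ≪≫ EGA73.tensIso a b ≪≫ p ≪≫
    Limits.Sigma.mapIso (fun _ => q)⟩

end Groth.Agent.TwTens96
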